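import Cfsg.Agent.Lib.Lie.ConwayTwoOut.Data

/-!
Steps of the second program.
-/

set_option autoImplicit false
set_option maxRecDepth 100000
set_option Elab.async false

namespace Cfsg.Agent.Lie.ConwayTwoOut

open OutTables PermTable

theorem stepB10 :
    (List.range' (60 * 10) 60).all (fun i => !Nat.blt i data.opsB.length || stepOK data.B data.N 4 data.opsB i) = true := by
  decide +kernel

end Cfsg.Agent.Lie.ConwayTwoOut
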