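import Cfsg.Agent.Lib.Lie.ConwayTwoOut.Data

/-!
The chains.
-/

set_option autoImplicit false
set_option maxRecDepth 100000
set_option Elab.async false

namespace Cfsg.Agent.Lie.ConwayTwoOut

open OutTables PermTable

theorem chainX_ok :
    chainOK data.S data.N data.ns data.chX [] = true := by
  decide +kernel

theorem chainN_ok :
    chainOK data.S data.N data.ns data.chN [] = true := by
  decide +kernel

end Cfsg.Agent.Lie.ConwayTwoOut
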