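import Cfsg.Agent.Lib.Lie.ConwayTwoOut.VecCheck
import Cfsg.Agent.Lib.Spor.Co2Co3
import Cfsg.Agent.Lib.Spor.HigmanSims

/-!
Three elements of the second Conway group, the subgroup they generate, and its action on the 2300 pairs.
-/

set_option autoImplicit false
set_option maxRecDepth 100000

namespace Cfsg.Agent.Lie.ConwayTwoOut

open Cfsg Cfsg.Agent.Spor PermTable

local notation "Zv" => GolayPt → ℤ

/-- The group. -/
abbrev CG : Type := ↥(MulAction.stabilizer ↥Co0 Cfsg.Spor.leechU)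

theorem card_CG : Nat.card CG = 42305421312000 := card_co2 fixed_vec.2

instance finite_CG : Finite CG := Nat.finite_of_card_ne_zero (by rw [card_CG]; norm_num)

attribute [local irreducible] tab vecL dec code wordFast

theorem pointVec_facts {i : ℕ} (hi : i < 2300) :
    ((dec (code (vecL i)) = i ∧ dec (code (comp (vecL i))) = i) ∧
      (i = 0 ∨ (blk parPt i < i ∧ (blk parGen i < 3 ∧ tab (2 * blk parGen i) (blk parPt i) = i)))) ∧
    ∀ j < 3, (tab (2 * j) i < 2300 ∧ tab (2 * j + 1) i < 2300) ∧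
      ((tab (2 * j + 1) (tab (2 * j) i) = i ∧ tab (2 * j) (tab (2 * j + 1) i) = i) ∧
      (wordFast (words.getD j []) (vecL i) = vecL (tab (2 * j) i) ∨
        wordFast (words.getD j []) (vecL i) = comp (vecL (tab (2 * j) i)))) := by
  have h := vec_all i hi
  simp only [pointVec, force_eq, Bool.and_eq_true, Bool.or_eq_true, List.all_eq_true, List.mem_range, Nat.blt_eq,
    Nat.beq_eq, beq_iff_eq, Nat.mul_eq, Nat.add_eq] at h
  exact h

theorem word_facts {j : ℕ} (hj : j < 3) : ((words.getD j []).all LOp.ok = true ∧ (words.getD j []).all opSmall = true) ∧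
    wordFast (words.getD j []) uL = uL := by
  have h := words_ok
  simp only [wordsCheck, Bool.and_eq_true, List.all_eq_true, List.mem_range, Nat.beq_eq, beq_iff_eq] at h
  refine ⟨?_, h.2.2 j hj⟩
  rw [List.all_eq_true, List.all_eq_true]
  have hm : words.getD j [] ∈ words := by
    rw [List.getD_eq_getElem _ _ (h.2.1.symm ▸ hj)]
    exact List.getElem_mem _
  exact h.1 _ hm

theorem vecOf_uL : vecOf uL = Cfsg.Spor.vecU := (funext fixed_vec.1).symm

/-- A word gives an element of the group. -/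
theorem exists_gen (j : Fin 3) : ∃ g : CG, ∀ v : ↥leechLattice,
    ((g.1 • v : ↥leechLattice) : Zv) = wordApp (words.getD j []) (v : Zv) := by
  obtain ⟨⟨hok, hsm⟩, hu⟩ := word_facts j.2
  obtain ⟨x, hxi⟩ := exists_xi
  obtain ⟨g, -, hg⟩ := word_elem ⊤ (fun _ _ => Subgroup.mem_top _) (Subgroup.mem_top x) hxi _ hok
  refine ⟨⟨g, Subtype.ext ((hg _).trans ?_)⟩, hg⟩
  show wordApp _ Cfsg.Spor.vecU = Cfsg.Spor.vecU
  rw [← vecOf_uL, ← wordFast_spec _ hsm, hu]

/-- One of the three elements. -/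
noncomputable def gen (j : Fin 3) : CG := (exists_gen j).choose

theorem gen_spec (j : Fin 3) (v : ↥leechLattice) :
    (((gen j).1 • v : ↥leechLattice) : Zv) = wordApp (words.getD j []) (v : Zv) := (exists_gen j).choose_spec v

theorem comp_mem {i : ℕ} (h : vecOf (vecL i) ∈ leechLattice) : vecOf (comp (vecL i)) ∈ leechLattice := by
  rw [vecOf_comp, vecOf_uL]
  exact sub_mem Cfsg.Spor.leechU.2 h

theorem vec_mem : ∀ i < 2300, vecOf (vecL i) ∈ leechLattice := by
  intro i
  induction i using Nat.strong_induction_on with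
  | _ i ih =>
    intro hi
    rcases (pointVec_facts hi).1.2 with rfl | ⟨hlt, hg, he⟩
    · exact leechCheck_mem start_ok
    · have hp := ih _ hlt (hlt.trans hi)
      have h := ((pointVec_facts (hlt.trans hi)).2 _ hg).2.2
      rw [he] at h
      have hmem : vecOf (wordFast (words.getD (blk parGen i) []) (vecL (blk parPt i))) ∈ leechLattice := by
        rw [wordFast_spec _ (word_facts hg).1.2, ← gen_spec ⟨_, hg⟩ ⟨_, hp⟩]
        exact Subtype.coe_prop _
      rcases h with h | h <;> rw [h] at hmem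
      · exact hmem
      · rw [vecOf_comp, vecOf_uL] at hmem
        have := sub_mem Cfsg.Spor.leechU.2 hmem
        rwa [show (Cfsg.Spor.leechU : Zv) = Cfsg.Spor.vecU from rfl, sub_sub_cancel] at this

/-- A representative in the lattice. -/
def vecPt (i : Fin 2300) : ↥leechLattice := ⟨vecOf (vecL i), vec_mem i i.2⟩

/-- A vector lies in the pair of a number. -/
def InPair (y : ↥leechLattice) (i : Fin 2300) : Prop := y = vecPt i ∨ y = Cfsg.Spor.leechU - vecPt i

theorem pair_val (i : Fin 2300) :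
    ((Cfsg.Spor.leechU - vecPt i : ↥leechLattice) : Zv) = vecOf (comp (vecL i)) := by
  rw [vecOf_comp, vecOf_uL]
  rfl

theorem inPair_unique {y : ↥leechLattice} {i j : Fin 2300} (hi : InPair y i) (hj : InPair y j) : i = j := by
  have key : ∀ {k : Fin 2300}, InPair y k → dec (code (rowOf (y : Zv))) = k := by
    intro k hk
    obtain ⟨h1, h2⟩ := (pointVec_facts k.2).1.1
    rcases hk with rfl | rfl
    · show dec (code (rowOf (vecOf (vecL k)))) = k
      rw [rowOf_vecL, h1]
    · rw [pair_val, rowOf_comp, h2]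
  exact Fin.ext ((key hi).symm.trans (key hj))

theorem inPair_smul (g : CG) {y : ↥leechLattice} {i j : Fin 2300} (hy : InPair y i) (hg : InPair (g.1 • vecPt i) j) :
    InPair (g.1 • y) j := by
  have hsub : ∀ z, g.1 • (Cfsg.Spor.leechU - z) = Cfsg.Spor.leechU - g.1 • z := fun z => by
    rw [eq_sub_iff_add_eq, ← co0_add, sub_add_cancel]
    exact g.2
  rcases hy with rfl | rfl
  · exact hg
  · rw [hsub]
    rcases hg with h | h
    · exact Or.inr (by rw [h])
    · exact Or.inl (by rw [h, sub_sub_cancel])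

theorem gen_image (j : Fin 3) (i : Fin 2300) :
    InPair ((gen j).1 • vecPt i) ⟨tab (2 * j) i, ((pointVec_facts i.2).2 j j.2).1.1⟩ := by
  have h := ((pointVec_facts i.2).2 j j.2).2.2
  have e : (((gen j).1 • vecPt i : ↥leechLattice) : Zv) = vecOf (wordFast (words.getD j []) (vecL i)) := by
    rw [gen_spec, wordFast_spec _ (word_facts j.2).1.2]
    rfl
  rcases h with h | h <;> rw [h] at e
  · exact Or.inl (Subtype.ext e)
  · exact Or.inr (Subtype.ext (e.trans (pair_val ⟨tab (2 * j) i, ((pointVec_facts i.2).2 j j.2).1.1⟩).symm))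

/-- The elements permuting the pairs. -/
def permGroup : Subgroup CG where
  carrier := {g | ∃ σ : Equiv.Perm (Fin 2300), ∀ i, InPair (g.1 • vecPt i) (σ i)}
  one_mem' := ⟨1, fun i => Or.inl (one_smul _ _)⟩
  mul_mem' := by
    rintro g h ⟨σ, hσ⟩ ⟨τ, hτ⟩
    refine ⟨σ * τ, fun i => ?_⟩
    rw [Subgroup.coe_mul, mul_smul]
    exact inPair_smul g (hτ i) (hσ _)
  inv_mem' := by
    rintro g ⟨σ, hσ⟩
    refine ⟨σ⁻¹, fun j => ?_⟩
    obtain ⟨i, rfl⟩ := σ.surjective j
    rw [Equiv.Perm.inv_def, Equiv.symm_apply_apply]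
    rcases hσ i with h | h
    · left
      rw [← h, Subgroup.coe_inv, inv_smul_smul]
    · right
      have e : vecPt (σ i) = Cfsg.Spor.leechU - g.1 • vecPt i := by rw [h, sub_sub_cancel]
      rw [e, Subgroup.coe_inv, inv_smul_eq_iff, eq_comm, eq_sub_iff_add_eq, ← co0_add, sub_add_cancel]
      exact g.2

/-- The action on the pairs. -/
noncomputable def pairPerm : ↥permGroup →* Equiv.Perm (Fin 2300) :=
  MonoidHom.mk' (fun g => g.2.choose) fun g h => Equiv.ext fun i => inPair_unique ((g * h).2.choose_spec i) (by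
    rw [Subgroup.coe_mul, Subgroup.coe_mul, mul_smul]
    exact inPair_smul g.1 (h.2.choose_spec i) (g.2.choose_spec _))

theorem gen_perm (j : Fin 3) : ∃ σ : Equiv.Perm (Fin 2300), ∀ i, (σ i : ℕ) = tab (2 * j) i ∧
    (σ.symm i : ℕ) = tab (2 * j + 1) i ∧ InPair ((gen j).1 • vecPt i) (σ i) := by
  refine ⟨{
    toFun := fun i => ⟨tab (2 * j) i, ((pointVec_facts i.2).2 j j.2).1.1⟩
    invFun := fun i => ⟨tab (2 * j + 1) i, ((pointVec_facts i.2).2 j j.2).1.2⟩
    left_inv := fun i => Fin.ext ((pointVec_facts i.2).2 j j.2).2.1.1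
    right_inv := fun i => Fin.ext ((pointVec_facts i.2).2 j j.2).2.1.2 }, fun i => ⟨rfl, rfl, gen_image j i⟩⟩

/-- The three elements and their inverses act as tabulated. -/
theorem gens_rep : ∀ x < 6, ∃ g : ↥permGroup, Rep pairPerm g (tab x) := by
  intro x hx
  obtain ⟨j, hj⟩ : ∃ j : Fin 3, (j : ℕ) = x / 2 := ⟨⟨x / 2, by omega⟩, rfl⟩
  obtain ⟨σ, hσ⟩ := gen_perm j
  have hmem : gen j ∈ permGroup := ⟨σ, fun i => (hσ i).2.2⟩
  have e : pairPerm ⟨gen j, hmem⟩ = σ :=
    Equiv.ext fun i => inPair_unique ((⟨gen j, hmem⟩ : ↥permGroup).2.choose_spec i) (hσ i).2.2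
  rcases Nat.mod_two_eq_zero_or_one x with h | h
  · refine ⟨⟨gen j, hmem⟩, fun k => ?_⟩
    rw [e, show x = 2 * (j : ℕ) by omega]
    exact (hσ k).1
  · refine ⟨⟨gen j, hmem⟩⁻¹, fun k => ?_⟩
    rw [map_inv, e, show x = 2 * (j : ℕ) + 1 by omega]
    exact (hσ k).2.1

/-- The group of the definitions. -/
theorem co2_iso : Nonempty (↥Cfsg.Spor.Co2 ≃* CG) :=
  ⟨{ toFun := fun g => ⟨⟨g.1, g.2.1⟩, g.2.2⟩
     invFun := fun f => ⟨(f.1 : Equiv.Perm ↥leechLattice), ⟨f.1.2, f.2⟩⟩
     left_inv := fun _ => rfl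
     right_inv := fun _ => rfl
     map_mul' := fun _ _ => rfl }⟩

end Cfsg.Agent.Lie.ConwayTwoOut
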