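import Cfsg.Agent.Lib.Lie.ConwayTwoOut.CheckA0
import Cfsg.Agent.Lib.Lie.ConwayTwoOut.CheckA1
import Cfsg.Agent.Lib.Lie.ConwayTwoOut.CheckB0
import Cfsg.Agent.Lib.Lie.ConwayTwoOut.CheckB1
import Cfsg.Agent.Lib.Lie.ConwayTwoOut.CheckB2
import Cfsg.Agent.Lib.Lie.ConwayTwoOut.CheckNorm0
import Cfsg.Agent.Lib.Lie.ConwayTwoOut.CheckCand0
import Cfsg.Agent.Lib.Lie.ConwayTwoOut.CheckPoints
import Cfsg.Agent.Lib.Lie.ConwayTwoOut.CheckChains
import Cfsg.Agent.Lib.Lie.ConwayTwoOut.Points

/-!
The outer automorphism group of the second Conway group is trivial, from the checked tables.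
-/

set_option autoImplicit false
set_option maxRecDepth 100000

namespace Cfsg.Agent.Lie.ConwayTwoOut

open OutTables PermTable

/-- The action on the pairs. -/
noncomputable def act : ↥permGroup →* Equiv.Perm (Fin data.N) := pairPerm

theorem point_all : ∀ k < data.N, (data.lettersCheck k && data.pointCheck k) = true :=
  of_chunks 512 5 (by decide +kernel) <| fun j hj => by
    interval_cases j
    · exact point0
    · exact point1
    · exact point2
    · exact point3
    · exact point4

theorem strong_all : ∀ j < data.ns, data.strongCheck j = true :=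
  of_chunks 8 6 (by decide +kernel) <| fun j hj => by
    interval_cases j
    · exact strong0
    · exact strong1
    · exact strong2
    · exact strong3
    · exact strong4
    · exact strong5

theorem stepsA_all : ∀ i < data.opsA.length, stepOK data.A data.N data.ng data.opsA i = true :=
  of_chunks 60 7 (by decide +kernel) <| fun j hj => by
    interval_cases j
    · exact stepA0
    · exact stepA1
    · exact stepA2
    · exact stepA3
    · exact stepA4
    · exact stepA5
    · exact stepA6

theorem stepsB_all : ∀ i < data.opsB.length, stepOK data.B data.N 4 data.opsB i = true :=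
  of_chunks 60 11 (by decide +kernel) <| fun j hj => by
    interval_cases j
    · exact stepB0
    · exact stepB1
    · exact stepB2
    · exact stepB3
    · exact stepB4
    · exact stepB5
    · exact stepB6
    · exact stepB7
    · exact stepB8
    · exact stepB9
    · exact stepB10

theorem norm_all : srch data.S (data.el 0) (powF (data.el 0) data.r) data.leafNorm data.chX [] [] = true :=
  srch_first (L := chXL0) (Ls := chXRest) 256 9 (by decide +kernel) <| fun j hj => by
    interval_cases j
    · exact norm0
    · exact norm1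
    · exact norm2
    · exact norm3
    · exact norm4
    · exact norm5
    · exact norm6
    · exact norm7
    · exact norm8

theorem cand_all : srch data.S (data.el 1) (powF (data.el 1) data.K) data.leafOne data.chN [] [] = true :=
  srch_first (L := chNL0) (Ls := chNRest) 256 9 (by decide +kernel) <| fun j hj => by
    interval_cases j
    · exact cand0
    · exact cand1
    · exact cand2
    · exact cand3
    · exact cand4
    · exact cand5
    · exact cand6
    · exact cand7
    · exact cand8

theorem size_facts : (chainSize data.chX = 42305421312000 ∧ chainSize data.chN = 42305421312000) ∧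
    data.p.Prime ∧ ¬ data.p ^ 2 ∣ 42305421312000 :=
  ⟨⟨by decide +kernel, by decide +kernel⟩, show Nat.Prime 23 by norm_num,
    show ¬ 23 ^ 2 ∣ 42305421312000 by norm_num⟩

/-- The strong generators permute the pairs. -/
theorem strong_mem : ∀ j < data.ns, ∃ u ∈ (⊤ : Subgroup ↥permGroup), Rep act u (data.S j) := by
  have hb := base_ok
  simp only [Data.baseCheck, Bool.and_eq_true, Bool.or_eq_true, Nat.blt_eq, Nat.beq_eq, List.all_eq_true,
    List.any_eq_true, List.mem_range] at hb
  have hpt : ∀ k : Fin data.N, _ := fun k : Fin data.N => point_all k k.2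
  simp only [Data.lettersCheck, Data.pointCheck, Bool.and_eq_true, Nat.blt_eq, Nat.beq_eq, List.all_eq_true] at hpt
  have hA : ∀ i < data.ng + data.opsA.length,
      ∃ u ∈ (⊤ : Subgroup ↥permGroup), Rep act u (data.A i) := by
    refine prog_mem (fun i hi => ?_) stepsA_all
    obtain ⟨g, hg⟩ := gens_rep i hi
    exact ⟨g, Subgroup.mem_top g, fun k => hg k⟩
  choose el hel using fun j : Fin 4 => hA _ (hb.1.2 j j.2)
  have inv_rep : ∀ {g : ↥permGroup} {f f' : ℕ → ℕ}, Rep act g f →
      (∀ k : Fin data.N, f' k < data.N ∧ f (f' k) = k) → Rep act g⁻¹ f' := by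
    intro g f f' hg h k
    have e : act g ⟨f' k, (h k).1⟩ = k := Fin.ext ((hg _).trans (h k).2)
    have e2 : act g⁻¹ k = ⟨f' k, (h k).1⟩ := by
      rw [map_inv]
      exact Equiv.Perm.inv_eq_iff_eq.2 e.symm
    exact congrArg Fin.val e2
  have hB : ∀ i < 4 + data.opsB.length,
      ∃ u ∈ (⊤ : Subgroup ↥permGroup), Rep act u (data.B i) := by
    refine prog_mem (fun i hi => ?_) stepsB_all
    have r0 : Rep act (el 0) (data.B 0) := fun k => ((hel 0).2 k).trans (hpt k).2.1.1.1
    have r2 : Rep act (el 2) (data.B 2) := fun k => ((hel 2).2 k).trans (hpt k).2.1.1.2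
    interval_cases i
    · exact ⟨el 0, Subgroup.mem_top _, r0⟩
    · exact ⟨(el 0)⁻¹, Subgroup.mem_top _, inv_rep r0 fun k => ⟨(hpt k).2.2.1.1.1, (hpt k).2.1.2.1⟩⟩
    · exact ⟨el 2, Subgroup.mem_top _, r2⟩
    · exact ⟨(el 2)⁻¹, Subgroup.mem_top _, inv_rep r2 fun k => ⟨(hpt k).2.2.1.1.2, (hpt k).2.1.2.2⟩⟩
  intro j hj
  have h := strong_all j hj
  simp only [Data.strongCheck, Bool.and_eq_true, Nat.blt_eq, List.all_eq_true, List.mem_range, Nat.beq_eq] at h
  obtain ⟨u, hu, ru⟩ := hB _ h.1
  exact ⟨u, hu, fun k => (ru k).trans (h.2 k k.2).1.symm⟩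

theorem permGroup_top : permGroup = ⊤ := by
  refine Subgroup.eq_top_of_card_eq _ (le_antisymm (Subgroup.card_le_card_group _) ?_)
  have h := chain_le strong_mem data.chX [] chainX_ok
  rw [fixes_nil, Set.ncard_univ, size_facts.1.1] at h
  rw [card_CG]
  exact le_trans (Nat.le_mul_of_pos_right _ (one_le_fixes _)) h

/-- The group as the group of elements permuting the pairs. -/
noncomputable def topIso : ↥permGroup ≃* CG := (MulEquiv.subgroupCongr permGroup_top).trans Subgroup.topEquiv

theorem card_permGroup : Nat.card ↥permGroup = 42305421312000 := by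
  rw [Nat.card_congr topIso.toEquiv, card_CG]

theorem act_injective : Function.Injective act := by
  refine (injective_iff_map_eq_one _).2 fun g hg => ?_
  have h := chain_le strong_mem data.chX [] chainX_ok
  rw [fixes_nil, Set.ncard_univ, size_facts.1.1, card_permGroup] at h
  have h1 : (fixes act ([] ++ data.chX.map Lvl.b)).ncard ≤ 1 :=
    Nat.le_of_mul_le_mul_left (h.trans (Nat.mul_one _).ge) (by norm_num)
  exact (Set.ncard_le_one (Set.toFinite _)).1 h1 g (fun k _ => by rw [hg]; rfl) 1 fun k _ => by rw [map_one]; rfl

theorem valid : Valid data act where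
  inj := act_injective
  prime := size_facts.2.1
  once := card_permGroup ▸ size_facts.2.2
  gens := fun x hx => gens_rep x hx
  base := base_ok
  moves := moves_ok
  letters := fun k hk => (Bool.and_eq_true _ _ ▸ point_all k hk).1
  points := fun k hk => (Bool.and_eq_true _ _ ▸ point_all k hk).2
  stepsA := stepsA_all
  stepsB := stepsB_all
  strong := strong_all
  chainX := chainX_ok
  chainN := chainN_ok
  sizeX := size_facts.1.1.trans card_permGroup.symm
  sizeN := size_facts.1.2.trans card_permGroup.symm
  searchX := norm_all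

/-- Every automorphism is inner. -/
theorem out_card : Nat.card (Cfsg.Out ↥Cfsg.Spor.Co2) = 1 := by
  obtain ⟨e⟩ := co2_iso
  rw [OutCriterion.card_congr (e.trans topIso.symm)]
  exact card_one valid cand_all

end Cfsg.Agent.Lie.ConwayTwoOut
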