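import Cfsg.Agent.Lib.Lie.ConwayTwoOut.Data

/-!
Steps of the first program.
-/

set_option autoImplicit false
set_option maxRecDepth 100000
set_option Elab.async false

namespace Cfsg.Agent.Lie.ConwayTwoOut

open OutTables PermTable

theorem stepA0 :
    (List.range' (60 * 0) 60).all (fun i => !Nat.blt i data.opsA.length || stepOK data.A data.N data.ng data.opsA i) = true := by
  decide +kernel

theorem stepA1 :
    (List.range' (60 * 1) 60).all (fun i => !Nat.blt i data.opsA.length || stepOK data.A data.N data.ng data.opsA i) = true := by
  decide +kernel

theorem stepA2 :
    (List.range' (60 * 2) 60).all (fun i => !Nat.blt i data.opsA.length || stepOK data.A data.N data.ng data.opsA i) = true := by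
  decide +kernel

theorem stepA3 :
    (List.range' (60 * 3) 60).all (fun i => !Nat.blt i data.opsA.length || stepOK data.A data.N data.ng data.opsA i) = true := by
  decide +kernel

theorem stepA4 :
    (List.range' (60 * 4) 60).all (fun i => !Nat.blt i data.opsA.length || stepOK data.A data.N data.ng data.opsA i) = true := by
  decide +kernel

end Cfsg.Agent.Lie.ConwayTwoOut
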