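import Cfsg.Agent.Lib.Spor.Co1Simple
import Cfsg.Agent.Lib.Spor.MclConfig
import Cfsg.Agent.Lib.Lie.ConwayTwoOut.Vectors

/-!
The moves of the Leech lattice on lists of coordinates, and the coordinates of the chosen vectors from their codes.
-/

set_option autoImplicit false
set_option maxRecDepth 100000

namespace Cfsg.Agent.Lie.ConwayTwoOut

open Cfsg Cfsg.Agent.Spor

local notation "Zv" => GolayPt → ℤ

/-- Coordinates of a code. -/
def unpack (m : ℕ) : List ℤ :=
  (List.range 24).map fun k => (Nat.cast (Nat.mod (Nat.shiftRight m (Nat.mul 5 (Nat.sub 23 k))) 32) : ℤ) - 16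

/-- A code of a list of coordinates. -/
def code (l : List ℤ) : ℕ := l.foldl (fun m a => Nat.add (Nat.mul m 32) (a + 16).toNat) 0

/-- A representative by number. -/
def vecL (i : ℕ) : List ℤ := unpack ((vecCodes.getD (i / 64) []).getD (i % 64) 0)

/-- The partner of a representative. -/
def comp (l : List ℤ) : List ℤ := (List.range 24).map fun k => uL.getD k 0 - l.getD k 0

theorem vecOf_tab (f : ℕ → ℤ) (p : GolayPt) : vecOf ((List.range 24).map f) p = f (idx p) := by
  show ((List.range 24).map f).getD (idx p) 0 = _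
  rw [List.getD_eq_getElem _ _ (by simpa using idx_lt p), List.getElem_map, List.getElem_range]

theorem rowOf_tab (f : ℕ → ℤ) : rowOf (vecOf ((List.range 24).map f)) = (List.range 24).map f := by
  refine List.map_congr_left fun k hk => ?_
  rw [vecOf_tab, idx_pt k (List.mem_range.1 hk)]

theorem vecOf_comp (l : List ℤ) : vecOf (comp l) = vecOf uL - vecOf l :=
  funext fun p => vecOf_tab _ p

theorem rowOf_vecL (i : ℕ) : rowOf (vecOf (vecL i)) = vecL i := by
  rw [vecL, unpack]
  exact rowOf_tab _

theorem rowOf_comp (l : List ℤ) : rowOf (vecOf (comp l)) = comp l := by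
  rw [comp]
  exact rowOf_tab _

/-- The tetrads, evaluated. -/
def quadTab : List (List ℕ) :=
  [[0, 1, 2, 3], [0, 1, 2, 3], [0, 1, 2, 3], [0, 1, 2, 3], [4, 7, 10, 12], [5, 14, 17, 23],
   [6, 9, 11, 22], [4, 7, 10, 12], [8, 15, 16, 19], [6, 9, 11, 22], [4, 7, 10, 12], [6, 9, 11, 22],
   [4, 7, 10, 12], [13, 18, 20, 21], [5, 14, 17, 23], [8, 15, 16, 19], [8, 15, 16, 19], [5, 14, 17, 23],
   [13, 18, 20, 21], [8, 15, 16, 19], [13, 18, 20, 21], [13, 18, 20, 21], [6, 9, 11, 22], [5, 14, 17, 23]]

/-- The sextet element on lists. -/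
def xiFast (l : List ℤ) : List ℤ :=
  (List.range 24).map fun k =>
    ((bif Nat.blt k 4 then (-1 : ℤ) else 1) *
      (((quadTab.getD k []).map fun j => l.getD j 0).sum - 2 * l.getD k 0)) / 2

theorem quad_facts : ∀ p : GolayPt,
    (Finset.univ.filter fun q => tetIdx p = tetIdx q) = ((quadTab.getD (idx p) []).map pt).toFinset ∧
      ((quadTab.getD (idx p) []).map pt).Nodup ∧ (∀ j ∈ quadTab.getD (idx p) [], j < 24) ∧
      (tetIdx p = 0 ↔ idx p < 4) := by decide +kernel

theorem xiFast_spec (l : List ℤ) : vecOf (xiFast l) = xi (vecOf l) := by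
  funext p
  obtain ⟨hq, hnd, hlt, hs⟩ := quad_facts p
  have h2 : xi2 (vecOf l) p = (if tetIdx p = 0 then -1 else 1) *
      ((((quadTab.getD (idx p) []).map fun j => l.getD j 0).sum) - 2 * vecOf l p) := by
    have e : ((quadTab.getD (idx p) []).map fun j => l.getD j 0) =
        ((quadTab.getD (idx p) []).map pt).map (vecOf l) := by
      rw [List.map_map]
      refine List.map_congr_left fun j hj => ?_
      show _ = l.getD (idx (pt j)) 0
      rw [idx_pt j (hlt j hj)]
    rw [e, ← List.sum_toFinset _ hnd, ← hq, Finset.sum_filter]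
    have e2 : (2 : ℤ) * vecOf l p = ∑ q, (if p = q then 2 else 0) * vecOf l q := by
      simp [Finset.sum_ite_eq]
    rw [e2, ← Finset.sum_sub_distrib, Finset.mul_sum]
    refine Finset.sum_congr rfl fun q _ => ?_
    rw [xiM]
    split_ifs <;> ring
  rw [xiFast, vecOf_tab, xi, h2, Bool.cond_eq_ite]
  by_cases h : tetIdx p = 0
  · have h' : Nat.blt (idx p) 4 = true := by rw [Nat.blt_eq]; exact hs.1 h
    rw [if_pos h, if_pos h']
    rfl
  · have h' : ¬ Nat.blt (idx p) 4 = true := by rw [Nat.blt_eq]; exact fun hh => h (hs.2 hh)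
    rw [if_neg h, if_neg h']
    rfl

/-- A move on lists. -/
def opFast : LOp → List ℤ → List ℤ
  | .xiO, l => xiFast l
  | .sgO m, l => (List.range 24).map fun k => bif Nat.testBit m k then -(l.getD k 0) else l.getD k 0
  | .plO p, l => (List.range 24).map fun k => l.getD (p.getD k 0) 0

/-- A word on lists. -/
def wordFast : List LOp → List ℤ → List ℤ
  | [], l => l
  | o :: w, l => opFast o (wordFast w l)

/-- The entries of a move are coordinates. -/
def opSmall : LOp → Bool
  | .plO p => (List.range 24).all fun k => Nat.blt (p.getD k 0) 24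
  | _ => true

theorem opFast_spec {o : LOp} (h : opSmall o = true) (l : List ℤ) : vecOf (opFast o l) = o.app (vecOf l) := by
  cases o with
  | xiO => exact xiFast_spec l
  | sgO m =>
    funext p
    rw [opFast, vecOf_tab]
    show _ = sgn (ofMaskW m) (vecOf l) p
    cases hb : Nat.testBit m (idx p)
    · simp [sgn, ofMaskW, hb, vecOf]
    · simp [sgn, ofMaskW, hb, vecOf]
  | plO q =>
    funext p
    rw [opFast, vecOf_tab]
    show _ = vecOf l (pt (q.getD (idx p) 0))
    simp only [opSmall, List.all_eq_true, List.mem_range, Nat.blt_eq] at h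
    show _ = l.getD (idx (pt (q.getD (idx p) 0))) 0
    rw [idx_pt _ (h _ (idx_lt p))]

theorem wordFast_spec : ∀ (w : List LOp), w.all opSmall = true → ∀ l : List ℤ,
    vecOf (wordFast w l) = wordApp w (vecOf l)
  | [], _, l => rfl
  | o :: w, h, l => by
    rw [List.all_cons, Bool.and_eq_true] at h
    show vecOf (opFast o (wordFast w l)) = o.app (wordApp w (vecOf l))
    rw [opFast_spec h.1, wordFast_spec w h.2]

end Cfsg.Agent.Lie.ConwayTwoOut
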