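import Cfsg.Agent.Lib.Lie.ConwayTwoOut.VecDefs

/-!
The checks at one part of the points.
-/

set_option autoImplicit false
set_option maxRecDepth 100000
set_option Elab.async false

namespace Cfsg.Agent.Lie.ConwayTwoOut

theorem pairs4_ok : (List.range' 1840 460).all pointVec = true := by decide +kernel

end Cfsg.Agent.Lie.ConwayTwoOut
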