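import Cfsg.Agent.Lib.Lie.ConwayTwoOut.VecPart0
import Cfsg.Agent.Lib.Lie.ConwayTwoOut.VecPart1
import Cfsg.Agent.Lib.Lie.ConwayTwoOut.VecPart2

/-!
The checks at all points.
-/

set_option autoImplicit false

namespace Cfsg.Agent.Lie.ConwayTwoOut

theorem vec_all (i : ℕ) (hi : i < 2300) : pointVec i = true := by
  have key : ∀ b, (List.range' b 460).all pointVec = true → b ≤ i → i < b + 460 → pointVec i = true :=
    fun b h h1 h2 => List.all_eq_true.1 h i (List.mem_range'_1.2 ⟨h1, h2⟩)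
  rcases (by omega : i < 460 ∨ (460 ≤ i ∧ i < 920) ∨ (920 ≤ i ∧ i < 1380) ∨ (1380 ≤ i ∧ i < 1840) ∨
    (1840 ≤ i ∧ i < 1840 + 460)) with h | h | h | h | h
  exacts [key 0 pairs0_ok (Nat.zero_le i) h, key 460 pairs1_ok h.1 h.2, key 920 pairs2_ok h.1 h.2, key 1380 pairs3_ok h.1 h.2,
    key 1840 pairs4_ok h.1 h.2]

end Cfsg.Agent.Lie.ConwayTwoOut
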