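import Cfsg.Agent.Lib.Lie.ConwayTwoOut.Fast
import Cfsg.Agent.Lib.Lie.ConwayTwoOut.Data
import Cfsg.Prelude.Def_Spor_Conway

/-!
The pairs of vectors are distinct, are reached from the first one, and are permuted by the three words as tabulated.
-/

set_option autoImplicit false
set_option maxRecDepth 100000
set_option Elab.async false

namespace Cfsg.Agent.Lie.ConwayTwoOut

open Cfsg Cfsg.Agent.Spor PermTable

/-- A generator of the table. -/
def tab (j k : ℕ) : ℕ := look colA j k

/-- The checks at one point. -/
def pointVec (i : ℕ) : Bool :=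
  ((Nat.beq (dec (code (vecL i))) i && Nat.beq (dec (code (comp (vecL i)))) i) &&
    (Nat.beq i 0 || (Nat.blt (blk parPt i) i &&
      (Nat.blt (blk parGen i) 3 && Nat.beq (tab (Nat.mul 2 (blk parGen i)) (blk parPt i)) i)))) &&
  (List.range 3).all fun j => force (tab (Nat.mul 2 j) i) fun t =>
    (Nat.blt t 2300 && Nat.blt (tab (Nat.add (Nat.mul 2 j) 1) i) 2300) &&
      ((Nat.beq (tab (Nat.add (Nat.mul 2 j) 1) t) i &&
        Nat.beq (tab (Nat.mul 2 j) (tab (Nat.add (Nat.mul 2 j) 1) i)) i) &&
      (wordFast (words.getD j []) (vecL i) == vecL t || wordFast (words.getD j []) (vecL i) == comp (vecL t)))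

/-- The checks for the words and the first vector. -/
def wordsCheck : Bool :=
  (words.all fun w => w.all LOp.ok && w.all opSmall) &&
    (Nat.beq words.length 3 && (List.range 3).all fun j => wordFast (words.getD j []) uL == uL)

theorem words_ok : wordsCheck = true := by decide +kernel

theorem start_ok : leechCheck (vecOf (vecL 0)) = true := by decide +kernel

theorem fixed_vec : (∀ p : GolayPt, Cfsg.Spor.vecU p = vecOf uL p) ∧ sqNorm Cfsg.Spor.vecU = 32 := by
  constructor <;> decide +kernel

end Cfsg.Agent.Lie.ConwayTwoOut
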